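import Mathlib

/-!
# The difference map of a smooth `Z ⟶ T` is smooth and surjective

`diff_fppf`: for a smooth group `T` over `S` with geometrically irreducible fibres and a smooth `z : Z ⟶ T` with `Z ⟶ S`
surjective, the map `(y, y') ↦ z(y)⁻¹ z(y')` is smooth and surjective (`U · U = G`).
-/

set_option autoImplicit false
universe u
open CategoryTheory CategoryTheory.Limits MonoidalCategory CartesianMonoidalCategory MonObj AlgebraicGeometry Opposite

noncomputable section

namespace K821.Diff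

variable {S : Scheme.{u}}

lemma smooth_snd (X Y : Over S) [Smooth X.hom] : Smooth (snd X Y).left :=
  inferInstanceAs (Smooth (pullback.snd X.hom Y.hom))

lemma smooth_fst (X Y : Over S) [Smooth Y.hom] : Smooth (fst X Y).left :=
  inferInstanceAs (Smooth (pullback.fst X.hom Y.hom))

/-- `W × Z ⟶ W × T` is the base change of `z : Z ⟶ T`. -/
lemma isPullback_whiskerLeft (W : Over S) {Z T : Over S} (z : Z ⟶ T) :
    IsPullback (snd W Z) (W ◁ z) z (snd W T) := by
  refine ⟨⟨by rw [whiskerLeft_snd]⟩, ⟨PullbackCone.IsLimit.mk _ (fun s => lift (s.snd ≫ fst W T) s.fst) ?_ ?_ ?_⟩⟩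
  · intro s
    simp
  · intro s
    apply CartesianMonoidalCategory.hom_ext
    · simp
    · simpa using s.condition
  · intro s m h1 h2
    apply CartesianMonoidalCategory.hom_ext
    · rw [lift_fst, ← h2]
      simp
    · rw [lift_snd, ← h1]

lemma smooth_whiskerLeft (W : Over S) {Z T : Over S} (z : Z ⟶ T) [Smooth z.left] : Smooth (W ◁ z).left :=
  MorphismProperty.of_isPullback (P := @Smooth) ((isPullback_whiskerLeft W z).map (Over.forget S)) ‹_›

lemma isPullback_whiskerRight (W : Over S) {Z T : Over S} (z : Z ⟶ T) :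
    IsPullback (fst Z W) (z ▷ W) z (fst T W) := by
  refine ⟨⟨by rw [whiskerRight_fst]⟩, ⟨PullbackCone.IsLimit.mk _ (fun s => lift s.fst (s.snd ≫ snd T W)) ?_ ?_ ?_⟩⟩
  · intro s
    simp
  · intro s
    apply CartesianMonoidalCategory.hom_ext
    · simpa using s.condition
    · simp
  · intro s m h1 h2
    apply CartesianMonoidalCategory.hom_ext
    · rw [lift_fst, ← h1]
    · rw [lift_snd, ← h2]
      simp

lemma smooth_whiskerRight (W : Over S) {Z T : Over S} (z : Z ⟶ T) [Smooth z.left] : Smooth (z ▷ W).left :=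
  MorphismProperty.of_isPullback (P := @Smooth) ((isPullback_whiskerRight W z).map (Over.forget S)) ‹_›

/-- The automorphism `(w, x) ↦ (w, f w * x)` of `W × T`. -/
def shear {W T : Over S} [GrpObj T] (f : W ⟶ T) : W ⊗ T ≅ W ⊗ T where
  hom := lift (fst W T) ((fst W T ≫ f) * snd W T)
  inv := lift (fst W T) ((fst W T ≫ f)⁻¹ * snd W T)
  hom_inv_id := by
    apply CartesianMonoidalCategory.hom_ext
    · simp
    · rw [Category.assoc, lift_snd, MonObj.comp_mul, GrpObj.comp_inv, lift_fst_assoc, lift_snd, Category.id_comp,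
        inv_mul_cancel_left]
  inv_hom_id := by
    apply CartesianMonoidalCategory.hom_ext
    · simp
    · rw [Category.assoc, lift_snd, MonObj.comp_mul, lift_fst_assoc, lift_snd, Category.id_comp,
        mul_inv_cancel_left]

/-- The automorphism `(w, x) ↦ (w, x * f w)` of `W × T`. -/
def shearR {W T : Over S} [GrpObj T] (f : W ⟶ T) : W ⊗ T ≅ W ⊗ T where
  hom := lift (fst W T) (snd W T * (fst W T ≫ f))
  inv := lift (fst W T) (snd W T * (fst W T ≫ f)⁻¹)
  hom_inv_id := by
    apply CartesianMonoidalCategory.hom_ext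
    · simp
    · rw [Category.assoc, lift_snd, MonObj.comp_mul, GrpObj.comp_inv, lift_fst_assoc, lift_snd, Category.id_comp,
        mul_inv_cancel_right]
  inv_hom_id := by
    apply CartesianMonoidalCategory.hom_ext
    · simp
    · rw [Category.assoc, lift_snd, MonObj.comp_mul, lift_fst_assoc, lift_snd, Category.id_comp,
        inv_mul_cancel_right]

/-- `(t, t') ↦ t⁻¹ t'` is smooth. -/
lemma smooth_div (T : Over S) [GrpObj T] [Smooth T.hom] : Smooth ((fst T T)⁻¹ * snd T T : T ⊗ T ⟶ T).left := by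
  have h : ((fst T T)⁻¹ * snd T T : T ⊗ T ⟶ T) = (shear (𝟙 T)).inv ≫ snd T T := by
    simp [shear]
  rw [h, Over.comp_left]
  have h1 : IsIso (shear (𝟙 T)).inv.left := inferInstanceAs (IsIso ((Over.forget S).map (shear (𝟙 T)).inv))
  have h2 := smooth_snd T T
  exact MorphismProperty.comp_mem @Smooth _ _ inferInstance h2

theorem smooth_diff {T Z : Over S} [GrpObj T] [Smooth T.hom] (z : Z ⟶ T) [Smooth z.left] :
    Smooth ((fst Z Z ≫ z)⁻¹ * (snd Z Z ≫ z)).left := by
  have h : (fst Z Z ≫ z)⁻¹ * (snd Z Z ≫ z) = (z ▷ Z) ≫ (T ◁ z) ≫ ((fst T T)⁻¹ * snd T T : T ⊗ T ⟶ T) := by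
    rw [MonObj.comp_mul, MonObj.comp_mul, GrpObj.comp_inv, GrpObj.comp_inv]
    simp
  rw [h, Over.comp_left, Over.comp_left]
  have h1 := smooth_div T
  have h2 := smooth_whiskerRight Z z
  have h3 := smooth_whiskerLeft T z
  exact MorphismProperty.comp_mem @Smooth _ _ h2 (MorphismProperty.comp_mem @Smooth _ _ h3 h1)

theorem surjective_diff {T Z : Over S} [GrpObj T] [Smooth T.hom] [GeometricallyIrreducible T.hom]
    (z : Z ⟶ T) [Smooth z.left] [Surjective Z.hom] :
    Surjective ((fst Z Z ≫ z)⁻¹ * (snd Z Z ≫ z)).left := by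
  refine ⟨fun t => ?_⟩
  let W : Over S := Over.mk (T.left.fromSpecResidueField t ≫ T.hom)
  let f : W ⟶ T := Over.homMk (T.left.fromSpecResidueField t)
  have hirr : IrreducibleSpace (W ⊗ T).left :=
    GeometricallyIrreducible.geometrically_irreducibleSpace (f := T.hom) (T.left.fromSpecResidueField t ≫ T.hom)
      (pullback.snd W.hom T.hom) (pullback.fst W.hom T.hom) (IsPullback.of_hasPullback _ _).flip
  have hW : Nonempty W.left := inferInstanceAs (Nonempty (Spec (T.left.residueField t)))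
  have hWZ : Nonempty (W ⊗ Z).left := by
    obtain ⟨w⟩ := hW
    obtain ⟨y, hy⟩ := Z.hom.surjective (W.hom w)
    obtain ⟨p, -⟩ := Scheme.Pullback.exists_preimage_pullback (f := W.hom) (g := Z.hom) w y hy.symm
    exact ⟨p⟩
  have hsm := smooth_whiskerLeft W z
  have hopen : IsOpen (Set.range (W ◁ z).left) := (W ◁ z).left.isOpenMap.isOpen_range
  have hiso : IsIso (shearR f).hom.left := inferInstanceAs (IsIso ((Over.forget S).map (shearR f).hom))
  have hopen2 : IsOpen ((shearR f).hom.left ⁻¹' Set.range (W ◁ z).left) := hopen.preimage (shearR f).hom.left.continuous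
  have hne : (Set.range (W ◁ z).left).Nonempty := Set.range_nonempty _
  have hne2 : ((shearR f).hom.left ⁻¹' Set.range (W ◁ z).left).Nonempty :=
    hne.preimage (shearR f).hom.left.surjective
  obtain ⟨p, ⟨q1, hq1⟩, ⟨q2, hq2⟩⟩ := nonempty_preirreducible_inter hopen hopen2 hne hne2
  have hq : ((W ◁ z) ≫ (shearR f).hom).left q1 = (W ◁ z).left q2 := by
    rw [Over.comp_left, Scheme.Hom.comp_apply, hq1, hq2]
  obtain ⟨r, hr1, hr2⟩ := Scheme.Pullback.exists_preimage_pullback (f := ((W ◁ z) ≫ (shearR f).hom).left)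
    (g := (W ◁ z).left) q1 q2 hq
  let P : Over S := Over.mk (pullback.fst ((W ◁ z) ≫ (shearR f).hom).left (W ◁ z).left ≫ (W ⊗ Z).hom)
  let a : P ⟶ W ⊗ Z := Over.homMk (pullback.fst ((W ◁ z) ≫ (shearR f).hom).left (W ◁ z).left)
  let b : P ⟶ W ⊗ Z := Over.homMk (pullback.snd ((W ◁ z) ≫ (shearR f).hom).left (W ◁ z).left) (by
    change _ ≫ (W ⊗ Z).hom = pullback.fst ((W ◁ z) ≫ (shearR f).hom).left (W ◁ z).left ≫ (W ⊗ Z).hom
    rw [← Over.w (W ◁ z), ← pullback.condition_assoc, Over.w, Over.w])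
  have hab : a ≫ (W ◁ z) ≫ (shearR f).hom = b ≫ (W ◁ z) := by
    apply Over.OverMorphism.ext
    exact pullback.condition
  have h1 : a ≫ fst W Z = b ≫ fst W Z := by
    have := congrArg (· ≫ fst W T) hab
    simpa [shearR] using this
  have h2 : (a ≫ snd W Z ≫ z) * (a ≫ fst W Z ≫ f) = b ≫ snd W Z ≫ z := by
    have := congrArg (· ≫ snd W T) hab
    simpa [shearR, MonObj.comp_mul] using this
  have h3 : lift (a ≫ snd W Z) (b ≫ snd W Z) ≫ ((fst Z Z ≫ z)⁻¹ * (snd Z Z ≫ z)) = a ≫ fst W Z ≫ f := by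
    rw [MonObj.comp_mul, GrpObj.comp_inv, lift_fst_assoc, lift_snd_assoc, Category.assoc, Category.assoc, ← h2,
      inv_mul_cancel_left]
  refine ⟨(lift (a ≫ snd W Z) (b ≫ snd W Z)).left r, ?_⟩
  rw [← Scheme.Hom.comp_apply, ← Over.comp_left, h3, Over.comp_left, Over.comp_left, Scheme.Hom.comp_apply,
    Scheme.Hom.comp_apply]
  exact Scheme.fromSpecResidueField_apply t _

theorem diff_fppf {T Z : Over S} [GrpObj T] [Smooth T.hom] [GeometricallyIrreducible T.hom]
    (z : Z ⟶ T) [Smooth z.left] [Surjective Z.hom] :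
    Smooth ((fst Z Z ≫ z)⁻¹ * (snd Z Z ≫ z)).left ∧ Surjective ((fst Z Z ≫ z)⁻¹ * (snd Z Z ≫ z)).left :=
  ⟨smooth_diff z, surjective_diff z⟩

end K821.Diff
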